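import Mathlib
/-!
The Todd series `t / (1 - e^{-t})`: coefficient identities.
-/

open PowerSeries Finset

set_option autoImplicit false

namespace Groth.Agent.ToddSeries

local notation "E" => (PowerSeries.exp ℚ)

theorem coeff_zero_eq_one {f : PowerSeries ℚ} (hf : f * (E - 1) = X * E) : coeff 0 f = 1 := by
  have h := congrArg (coeff 1) hf
  rw [coeff_mul, Finset.Nat.antidiagonal_succ] at h
  simpa using h

/-- `e^{mt}` -/
noncomputable def em (m : ℤ) : PowerSeries ℚ := rescale (m : ℚ) E

theorem em_add (a b : ℤ) : em (a + b) = em a * em b := by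
  rw [em, em, em, Int.cast_add, exp_mul_exp_eq_exp_add]

theorem em_zero : em 0 = 1 := by
  rw [em, Int.cast_zero, rescale_zero_apply, constantCoeff_exp, map_one]

theorem em_one : em 1 = E := by
  rw [em, Int.cast_one, rescale_one]
  rfl

theorem mul_em_neg_one {f : PowerSeries ℚ} (hf : f * (E - 1) = X * E) : f * em (-1) = f - X := by
  have h1 : E * em (-1) = 1 := by rw [← em_one, ← em_add]; simpa using em_zero
  have h2 : f * (E - 1) * em (-1) = X * E * em (-1) := by rw [hf]
  linear_combination -h2 + f * h1 - X * h1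

theorem sq_mul_em_neg_one {f : PowerSeries ℚ} (hf : f * (E - 1) = X * E) :
    f ^ 2 * em (-1) = f - X * derivative ℚ f := by
  have h1 := congrArg (derivative ℚ) hf
  rw [Derivation.leibniz, Derivation.leibniz, map_sub, derivative_exp, Derivation.map_one_eq_zero,
    sub_zero, derivative_X] at h1
  simp only [smul_eq_mul] at h1
  have hE : (E : PowerSeries ℚ) ≠ 0 := fun h => by simpa using congrArg (coeff 0) h
  have h2 : f ^ 2 = f + X * f - X * derivative ℚ f := by
    refine mul_right_cancel₀ hE ?_
    linear_combination f * h1 - derivative ℚ f * hf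
  linear_combination f * mul_em_neg_one hf + h2

theorem coeff_em_neg_one {f : PowerSeries ℚ} (hf : f * (E - 1) = X * E) (n : ℕ) :
    coeff (n + 1) (em (-1) * f ^ (n + 2)) = 0 := by
  have h1 : em (-1) * f ^ (n + 2) = f ^ (n + 1) - X * (f ^ n * derivative ℚ f) := by
    linear_combination f ^ n * sq_mul_em_neg_one hf
  have h2 : derivative ℚ (f ^ (n + 1)) = (n + 1 : ℕ) • (f ^ n * derivative ℚ f) := by
    rw [Derivation.leibniz_pow, smul_eq_mul, Nat.add_sub_cancel]
  have h3 := congrArg (coeff n) h2
  rw [coeff_derivative, map_nsmul, nsmul_eq_mul, Nat.cast_add, Nat.cast_one, mul_comm] at h3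
  have hn : (n : ℚ) + 1 ≠ 0 := by positivity
  rw [h1, map_sub, coeff_succ_X_mul, ← mul_left_cancel₀ hn h3, sub_self]

theorem coeff_step {f : PowerSeries ℚ} (hf : f * (E - 1) = X * E) (n : ℕ) (m : ℤ) :
    coeff (n + 1) (em m * f ^ (n + 2)) - coeff (n + 1) (em (m - 1) * f ^ (n + 2)) =
      coeff n (em m * f ^ (n + 1)) := by
  rw [← map_sub, sub_eq_add_neg m 1, em_add,
    show em m * f ^ (n + 2) - em m * em (-1) * f ^ (n + 2) = X * (em m * f ^ (n + 1)) by
      linear_combination (-(em m) * f ^ (n + 1)) * mul_em_neg_one hf,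
    coeff_succ_X_mul]

theorem coeff_em {f : PowerSeries ℚ} (hf : f * (E - 1) = X * E) :
    ∀ (n : ℕ) (m : ℤ), coeff n (em m * f ^ (n + 1)) = ((Ring.choose (m + n : ℤ) n : ℤ) : ℚ) := by
  intro n
  induction n with
  | zero =>
    intro m
    have h0 : constantCoeff (em m) = 1 := by
      rw [← coeff_zero_eq_constantCoeff_apply, em, coeff_rescale]; simp
    simpa [coeff_zero_eq_constantCoeff, h0] using coeff_zero_eq_one hf
  | succ n ih =>
    intro m
    have hs : ∀ j : ℤ, coeff (n + 1) (em j * f ^ (n + 2)) - coeff (n + 1) (em (j - 1) * f ^ (n + 2)) =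
        ((Ring.choose (j + (n + 1 : ℕ) : ℤ) (n + 1) : ℤ) : ℚ) - ((Ring.choose (j - 1 + (n + 1 : ℕ) : ℤ) (n + 1) : ℤ) : ℚ) := by
      intro j
      rw [coeff_step hf, ih j, ← Int.cast_sub, show j + (n + 1 : ℕ) = (j + n : ℤ) + 1 by push_cast; ring,
        Ring.choose_succ_succ, show (j - 1 + (n + 1 : ℕ) : ℤ) = j + n by push_cast; ring, add_sub_cancel_right]
    induction m using Int.inductionOn' (b := -1) with
    | zero =>
      rw [coeff_em_neg_one hf, show (-1 + (n + 1 : ℕ) : ℤ) = (n : ℤ) by push_cast; ring,
        Ring.choose_natCast, Nat.choose_succ_self]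
      simp
    | succ k _ h =>
      have := hs (k + 1)
      rw [show k + 1 - 1 = k by ring] at this
      linarith
    | pred k _ h =>
      have := hs k
      linarith

/-- Existence of the series. -/
theorem exists_todd : ∃ f : PowerSeries ℚ, f * (E - 1) = X * E := by
  let h : PowerSeries ℚ := PowerSeries.mk fun n => coeff (n + 1) E
  have hh : E - 1 = X * h := by
    ext n
    cases n with
    | zero => simp
    | succ n => simp [h, coeff_succ_X_mul, coeff_one]
  refine ⟨E * h⁻¹, ?_⟩
  have h0 : constantCoeff h ≠ 0 := by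
    rw [← coeff_zero_eq_constantCoeff_apply]; simp [h]
  rw [hh, show E * h⁻¹ * (X * h) = X * E * (h⁻¹ * h) by ring, PowerSeries.inv_mul_cancel _ h0, mul_one]

/-- The normalisation determines the series. -/
theorem eq_todd_iff (f : PowerSeries ℚ) :
    (∀ n : ℕ, coeff n (f ^ (n + 1)) = 1) ↔ f * (E - 1) = X * E := by
  constructor
  · intro h
    obtain ⟨g, hg⟩ := exists_todd
    suffices f = g by rw [this]; exact hg
    have hg' : ∀ n, coeff n (g ^ (n + 1)) = 1 := fun n => by
      have := coeff_em hg n 0
      rwa [em_zero, one_mul, zero_add, Ring.choose_natCast, Nat.choose_self, Nat.cast_one, Int.cast_one] at this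
    ext n
    induction n using Nat.strong_induction_on with
    | _ n ih =>
      obtain ⟨d, hd⟩ : X ^ n ∣ f - g := X_pow_dvd_iff.2 fun i hi => by rw [map_sub, ih i hi, sub_self]
      have hsum := geom_sum₂_mul f g (n + 1)
      have hf0 : constantCoeff f = 1 := by simpa using h 0
      have hg0 : constantCoeff g = 1 := by simpa using hg' 0
      have h1 := congrArg (coeff n) hsum
      have hcd : coeff n (f - g) = constantCoeff d := by
        rw [hd, mul_comm]
        simpa using coeff_mul_X_pow d n 0
      rw [map_sub, h n, hg' n, sub_self, hd, mul_left_comm, mul_comm] at h1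
      have h2 := coeff_mul_X_pow ((∑ i ∈ range (n + 1), f ^ i * g ^ (n + 1 - 1 - i)) * d) n 0
      rw [zero_add, h1, coeff_zero_eq_constantCoeff_apply, map_mul, map_sum] at h2
      simp only [map_mul, map_pow, hf0, hg0, one_pow, one_mul, Finset.sum_const, card_range, nsmul_one] at h2
      have h3 : constantCoeff d = 0 := by
        rcases mul_eq_zero.1 h2.symm with h4 | h4
        · exact absurd h4 (by positivity)
        · exact h4
      rw [h3, map_sub, sub_eq_zero] at hcd
      exact hcd
  · intro hf n
    have := coeff_em hf n 0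
    rwa [em_zero, one_mul, zero_add, Ring.choose_natCast, Nat.choose_self, Nat.cast_one, Int.cast_one] at this

end Groth.Agent.ToddSeries
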